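import Mathlib.Algebra.Category.Grp.Adjunctions
import Mathlib.Algebra.Category.Grp.Abelian
import Mathlib.Algebra.Category.Grp.EpiMono
import Mathlib.Algebra.Homology.QuasiIso
import Mathlib.Algebra.Homology.ShortComplex.Ab
import Mathlib.AlgebraicTopology.DoldKan.HomotopyEquivalence
import Mathlib.AlgebraicTopology.SimplicialObject.ChainHomotopy
import Mathlib.AlgebraicTopology.SimplicialSet.Homotopy

/-!
A homomorphism of simplicial abelian groups whose map of underlying simplicial sets is a
homotopy equivalence is a quasi-isomorphism of the associated complexes.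
-/

set_option autoImplicit false
universe u w

open CategoryTheory CategoryTheory.Limits HomologicalComplex AlgebraicTopology AlgebraicTopology.DoldKan
open Opposite Simplicial

namespace Groth.Agent.SimpAbHtpy

section homology

variable {ι : Type w} {c : ComplexShape ι} {K L : HomologicalComplex AddCommGrpCat.{u} c} {p : ι}

theorem homologyπ_surjective : Function.Surjective (K.homologyπ p) :=
  (AddCommGrpCat.epi_iff_surjective _).1 inferInstance

theorem iCycles_injective : Function.Injective (K.iCycles p) :=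
  (AddCommGrpCat.mono_iff_injective _).1 inferInstance

theorem exists_cycle (x : K.X p) (hx : K.d p (c.next p) x = 0) :
    ∃ z : K.cycles p, K.iCycles p z = x := by
  have h := ShortComplex.exact_of_f_is_kernel
    (ShortComplex.mk _ _ (K.iCycles_d p (c.next p))) (K.cyclesIsKernel p _ rfl)
  exact (ShortComplex.ab_exact_iff _).1 h x hx

theorem homologyπ_eq_zero_iff (z : K.cycles p) :
    K.homologyπ p z = 0 ↔ ∃ v, K.d (c.prev p) p v = K.iCycles p z := by
  constructor
  · intro hz
    have h := ShortComplex.exact_of_g_is_cokernel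
      (ShortComplex.mk _ _ (K.toCycles_comp_homologyπ (c.prev p) p)) (K.homologyIsCokernel _ p rfl)
    obtain ⟨v, rfl⟩ := (ShortComplex.ab_exact_iff _).1 h z hz
    exact ⟨v, congr($(K.toCycles_i (c.prev p) p) v).symm⟩
  · rintro ⟨v, hv⟩
    obtain rfl : K.toCycles (c.prev p) p v = z :=
      iCycles_injective (congr($(K.toCycles_i (c.prev p) p) v).trans hv)
    exact congr($(K.toCycles_comp_homologyπ (c.prev p) p) v)

theorem homologyMap_π_apply (φ : K ⟶ L) (z : K.cycles p) :
    homologyMap φ p (K.homologyπ p z) = L.homologyπ p (cyclesMap φ p z) :=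
  congr($(homologyπ_naturality φ p) z)

theorem iCycles_cyclesMap (φ : K ⟶ L) (z : K.cycles p) :
    L.iCycles p (cyclesMap φ p z) = φ.f p (K.iCycles p z) :=
  congr($(cyclesMap_i φ p) z)

theorem d_iCycles (z : K.cycles p) (q : ι) : K.d p q (K.iCycles p z) = 0 :=
  congr($(K.iCycles_d p q) z)

end homology

variable {X Y : SimplicialObject AddCommGrpCat.{u}}

/-- alternating complex -/
noncomputable abbrev cx (X : SimplicialObject AddCommGrpCat.{u}) : ChainComplex AddCommGrpCat.{u} ℕ :=
  (alternatingFaceMapComplex AddCommGrpCat.{u}).obj X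

/-- the free simplicial group on the underlying simplicial set -/
noncomputable abbrev fr (S : SSet.{u}) : SimplicialObject AddCommGrpCat.{u} :=
  ((SimplicialObject.whiskering (Type u) AddCommGrpCat.{u}).obj AddCommGrpCat.free).obj S

/-- underlying simplicial set -/
abbrev und (X : SimplicialObject AddCommGrpCat.{u}) : SSet.{u} := X ⋙ forget AddCommGrpCat.{u}

/-- the counit -/
noncomputable def ev (X : SimplicialObject AddCommGrpCat.{u}) : fr (und X) ⟶ X :=
  Functor.whiskerLeft X AddCommGrpCat.adj.counit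

/-- `x ↦ [x] - [0]` -/
noncomputable def lift (X : SimplicialObject AddCommGrpCat.{u}) {n : ℕ} (x : (cx X).X n) :
    (cx (fr (und X))).X n :=
  FreeAbelianGroup.of x - FreeAbelianGroup.of 0

theorem lift_zero {n : ℕ} : lift X (n := n) 0 = 0 := sub_self _

theorem ev_lift {n : ℕ} (x : (cx X).X n) :
    ((alternatingFaceMapComplex AddCommGrpCat.{u}).map (ev X)).f n (lift X x) = x := by
  change FreeAbelianGroup.lift (fun a => a) (FreeAbelianGroup.of x - FreeAbelianGroup.of 0) = x
  rw [map_sub, FreeAbelianGroup.lift_apply_of, FreeAbelianGroup.lift_apply_of, sub_zero]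

theorem δ_lift {n : ℕ} (i : Fin (n + 2)) (x : (cx X).X (n + 1)) :
    (fr (und X)).δ i (lift X x) = lift X (n := n) (X.δ i x) := by
  change FreeAbelianGroup.map (X.δ i) (FreeAbelianGroup.of x - FreeAbelianGroup.of 0) =
    FreeAbelianGroup.of _ - FreeAbelianGroup.of 0
  rw [map_sub, FreeAbelianGroup.map_of_apply, FreeAbelianGroup.map_of_apply]
  congr 2
  exact map_zero (X.δ i).hom

theorem map_lift (f : X ⟶ Y) {n : ℕ} (x : (cx X).X n) :
    ((alternatingFaceMapComplex AddCommGrpCat.{u}).map
      (((SimplicialObject.whiskering (Type u) AddCommGrpCat.{u}).obj AddCommGrpCat.free).map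
        (Functor.whiskerRight f (forget AddCommGrpCat.{u})))).f n (lift X x) =
      lift Y (((alternatingFaceMapComplex AddCommGrpCat.{u}).map f).f n x) := by
  change FreeAbelianGroup.map _ (FreeAbelianGroup.of x - FreeAbelianGroup.of 0) =
    FreeAbelianGroup.of _ - FreeAbelianGroup.of 0
  rw [map_sub, FreeAbelianGroup.map_of_apply, FreeAbelianGroup.map_of_apply]
  congr 2
  exact map_zero (f.app _).hom

theorem d_succ_apply (Z : SimplicialObject AddCommGrpCat.{u}) {n : ℕ} (x : (cx Z).X (n + 1)) :
    (cx Z).d (n + 1) n x = ∑ i : Fin (n + 2), ((-1 : ℤ) ^ (i : ℕ)) • Z.δ i x := by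
  rw [show (cx Z).d (n + 1) n = ∑ i : Fin (n + 2), ((-1 : ℤ) ^ (i : ℕ)) • Z.δ i from
    AlternatingFaceMapComplex.obj_d_eq Z n]
  induction (Finset.univ : Finset (Fin (n + 2))) using Finset.cons_induction with
  | empty => rfl
  | cons a s ha ih =>
    rw [Finset.sum_cons, Finset.sum_cons, AddCommGrpCat.hom_add_apply, ih]
    congr 1

/-- normalised elements -/
def Normal {n : ℕ} (x : (cx X).X n) : Prop := ∃ y, ((PInfty : cx X ⟶ cx X).f n) y = x

theorem d_lift_of_normal {n : ℕ} {x : (cx X).X (n + 1)} (hx : Normal x) :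
    (cx (fr (und X))).d (n + 1) n (lift X x) = lift X ((cx X).d (n + 1) n x) := by
  obtain ⟨y, rfl⟩ := hx
  have hv : ∀ i : Fin (n + 1), X.δ i.succ (((PInfty : cx X ⟶ cx X).f (n + 1)) y) = 0 := fun i => by
    have h := HigherFacesVanish.of_P (X := X) (n + 1) n i (by omega)
    rw [← PInfty_f] at h
    exact congr($h y)
  rw [d_succ_apply, d_succ_apply, Fin.sum_univ_succ (n := n + 1), Fin.sum_univ_succ (n := n + 1),
    Finset.sum_eq_zero (fun i _ => by rw [δ_lift, hv i, lift_zero, smul_zero]),
    Finset.sum_eq_zero (fun i _ => by rw [hv i, smul_zero])]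
  simp only [Fin.val_zero, pow_zero, one_smul, add_zero]
  exact δ_lift 0 _

theorem d_next_lift_of_normal {n : ℕ} {x : (cx X).X n} (hx : Normal x)
    (hd : (cx X).d n ((ComplexShape.down ℕ).next n) x = 0) :
    (cx (fr (und X))).d n ((ComplexShape.down ℕ).next n) (lift X x) = 0 := by
  cases n with
  | zero =>
    rw [(cx (fr (und X))).shape 0 _ (by simp)]
    rfl
  | succ m =>
    revert hd
    rw [show (ComplexShape.down ℕ).next (m + 1) = m from ChainComplex.next_nat_succ m]
    intro hd
    rw [d_lift_of_normal hx, hd, lift_zero]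

theorem exists_normal_cycle {n : ℕ} (a : (cx X).homology n) :
    ∃ z : (cx X).cycles n, Normal ((cx X).iCycles n z) ∧ (cx X).homologyπ n z = a := by
  obtain ⟨z, rfl⟩ := homologyπ_surjective a
  refine ⟨cyclesMap (PInfty : cx X ⟶ cx X) n z, ⟨(cx X).iCycles n z, (iCycles_cyclesMap _ z).symm⟩, ?_⟩
  rw [← homologyMap_π_apply, show homologyMap (PInfty : cx X ⟶ cx X) n = 𝟙 _ from
    (Homotopy.homologyMap_eq (homotopyPInftyToId X) n).trans (homologyMap_id _ _)]
  rfl

/-- the main statement -/
theorem isIso_homologyMap (f : X ⟶ Y) (g : und Y ⟶ und X)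
    (hX : Nonempty (SSet.Homotopy (Functor.whiskerRight f (forget AddCommGrpCat.{u}) ≫ g) (𝟙 _)) ∨
      Nonempty (SSet.Homotopy (𝟙 _) (Functor.whiskerRight f (forget AddCommGrpCat.{u}) ≫ g)))
    (hY : Nonempty (SSet.Homotopy (g ≫ Functor.whiskerRight f (forget AddCommGrpCat.{u})) (𝟙 _)) ∨
      Nonempty (SSet.Homotopy (𝟙 _) (g ≫ Functor.whiskerRight f (forget AddCommGrpCat.{u})))) (n : ℕ) :
    IsIso (homologyMap ((alternatingFaceMapComplex AddCommGrpCat.{u}).map f) n) := by
  let F : SSet.{u} ⥤ ChainComplex AddCommGrpCat.{u} ℕ :=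
    (SimplicialObject.whiskering (Type u) AddCommGrpCat.{u}).obj AddCommGrpCat.free ⋙
      alternatingFaceMapComplex AddCommGrpCat.{u}
  let H := F ⋙ HomologicalComplex.homologyFunctor AddCommGrpCat.{u} (ComplexShape.down ℕ) n
  have hH : ∀ {S T : SSet.{u}} {a b : S ⟶ T}, SSet.Homotopy a b → H.map a = H.map b := fun h =>
    Homotopy.homologyMap_eq (SimplicialObject.Homotopy.toChainHomotopy
      (h.toSimplicialObjectHomotopy.whiskerRight AddCommGrpCat.free)) n
  let uf := Functor.whiskerRight f (forget AddCommGrpCat.{u})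
  have h1 : H.map uf ≫ H.map g = 𝟙 _ := by
    rw [← H.map_comp, ← H.map_id]
    exact hX.elim (fun ⟨h⟩ => hH h) (fun ⟨h⟩ => (hH h).symm)
  have h2 : H.map g ≫ H.map uf = 𝟙 _ := by
    rw [← H.map_comp, ← H.map_id]
    exact hY.elim (fun ⟨h⟩ => hH h) (fun ⟨h⟩ => (hH h).symm)
  let K := alternatingFaceMapComplex AddCommGrpCat.{u}
  let φ : K.obj X ⟶ K.obj Y := K.map f
  let Φ : cx (fr (und X)) ⟶ cx (fr (und Y)) := F.map uf
  have hsq : Φ ≫ K.map (ev Y) = K.map (ev X) ≫ φ := by
    change K.map _ ≫ K.map _ = K.map _ ≫ K.map _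
    rw [← K.map_comp, ← K.map_comp]
    congr 1
    exact NatTrans.ext (funext fun m => AddCommGrpCat.adj.counit.naturality (f.app m))
  have hsq' : homologyMap Φ n ≫ homologyMap (K.map (ev Y)) n =
      homologyMap (K.map (ev X)) n ≫ homologyMap φ n := by
    rw [← homologyMap_comp, ← homologyMap_comp, hsq]
  rw [ConcreteCategory.isIso_iff_bijective]
  refine ⟨(injective_iff_map_eq_zero (homologyMap φ n).hom).2 fun a ha => ?_, fun b => ?_⟩
  · obtain ⟨z, hz, rfl⟩ := exists_normal_cycle a
    change homologyMap φ n _ = 0 at ha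
    rw [homologyMap_π_apply, homologyπ_eq_zero_iff, iCycles_cyclesMap] at ha
    obtain ⟨w, hw⟩ := ha
    obtain ⟨l, hl⟩ := exists_cycle (K := cx (fr (und X))) (lift X ((cx X).iCycles n z))
      (d_next_lift_of_normal hz (d_iCycles z _))
    have hl0 : homologyMap Φ n ((cx (fr (und X))).homologyπ n l) = 0 := by
      rw [homologyMap_π_apply, homologyπ_eq_zero_iff, iCycles_cyclesMap]
      rw [show Φ.f n ((cx (fr (und X))).iCycles n l) = lift Y (φ.f n ((cx X).iCycles n z)) from
        (congrArg _ hl).trans (map_lift f _)]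
      obtain ⟨y, hy⟩ := hz
      have hy' : φ.f n ((cx X).iCycles n z) = ((PInfty : cx Y ⟶ cx Y).f n) (φ.f n y) := by
        rw [← hy]
        exact (congr($(PInfty_f_naturality n f) y)).symm
      revert w
      rw [show (ComplexShape.down ℕ).prev n = n + 1 from ChainComplex.prev ℕ n]
      intro w hw
      refine ⟨lift Y (((PInfty : cx Y ⟶ cx Y).f (n + 1)) w), ?_⟩
      change (cx (fr (und Y))).d (n + 1) n _ = _
      rw [d_lift_of_normal ⟨w, rfl⟩]
      congr 1
      have hc : (cx Y).d (n + 1) n (((PInfty : cx Y ⟶ cx Y).f (n + 1)) w) = ((PInfty : cx Y ⟶ cx Y).f n) ((cx Y).d (n + 1) n w) :=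
        congr($((PInfty : cx Y ⟶ cx Y).comm (n + 1) n) w)
      rw [hc, show (cx Y).d (n + 1) n w = φ.f n ((cx X).iCycles n z) from hw, hy']
      exact congr($(PInfty_f_idem (X := Y) n) (φ.f n y))
    have hinj : (cx (fr (und X))).homologyπ n l = 0 := by
      have := congr($h1 ((cx (fr (und X))).homologyπ n l))
      change H.map g (homologyMap Φ n ((cx (fr (und X))).homologyπ n l)) = _ at this
      rw [hl0] at this
      exact (this.symm.trans (H.map g).hom.map_zero)
    have h3 := congrArg (homologyMap (K.map (ev X)) n) hinj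
    rw [map_zero, homologyMap_π_apply] at h3
    refine Eq.trans ?_ h3
    congr 1
    apply iCycles_injective
    rw [iCycles_cyclesMap, hl]
    exact (ev_lift _).symm
  · obtain ⟨z, hz, rfl⟩ := exists_normal_cycle b
    obtain ⟨l, hl⟩ := exists_cycle (K := cx (fr (und Y))) (lift Y ((cx Y).iCycles n z))
      (d_next_lift_of_normal hz (d_iCycles z _))
    refine ⟨homologyMap (K.map (ev X)) n (H.map g ((cx (fr (und Y))).homologyπ n l)), ?_⟩
    have h3 := congr($hsq' (H.map g ((cx (fr (und Y))).homologyπ n l)))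
    refine Eq.trans h3.symm ?_
    change homologyMap (K.map (ev Y)) n (homologyMap Φ n (H.map g _)) = _
    rw [show homologyMap Φ n (H.map g ((cx (fr (und Y))).homologyπ n l)) =
      (cx (fr (und Y))).homologyπ n l from congr($h2 _), homologyMap_π_apply]
    congr 1
    apply iCycles_injective
    rw [iCycles_cyclesMap, hl]
    exact ev_lift _

end Groth.Agent.SimpAbHtpy
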